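import Groth.Agent.Synt29.CIBaseChangeLocal
import Mathlib.AlgebraicGeometry.PullbackCarrier
import Mathlib.AlgebraicGeometry.ResidueField
import Mathlib.RingTheory.AlgebraicIndependent.TranscendenceBasis
import Mathlib.RingTheory.Algebraic.Integral
import Mathlib.FieldTheory.IsAlgClosed.AlgebraicClosure

/-!
# Dimension and transcendence degree under faithfully flat local base change
-/

set_option autoImplicit false
set_option linter.style.haveILetI false

universe u

open CategoryTheory CategoryTheory.Limits AlgebraicGeometry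

namespace Groth.Agent.DeltaFF

section Field

variable {k K k' E : Type u} [Field k] [Field K] [Field k'] [Field E] (a : k →+* K) (a' : k →+* k')
  (φ : K →+* E) (ψ : k' →+* E) (hc : φ.comp a = ψ.comp a')

include hc in
/-- A compositum has at most the transcendence degree of the factor. -/
theorem trdeg_le_of_generated (hgen : Subfield.closure (Set.range φ ∪ Set.range ψ) = ⊤) :
    @Algebra.trdeg k' E _ _ ψ.toAlgebra ≤ @Algebra.trdeg k K _ _ a.toAlgebra := by
  letI := a.toAlgebra
  letI := ψ.toAlgebra
  obtain ⟨T, hT⟩ := exists_isTranscendenceBasis k K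
  haveI := hT.isAlgebraic
  let A0 := Algebra.adjoin k (Set.range ((↑) : T → K))
  let A1 := Algebra.adjoin k' (φ '' T)
  have hmem : ∀ x : A0, φ x ∈ A1 := fun x => by
    obtain ⟨x, hx⟩ := x
    induction hx using Algebra.adjoin_induction with
    | mem y hy => exact Algebra.subset_adjoin ⟨y, by simpa using hy, rfl⟩
    | algebraMap r =>
      show φ (a r) ∈ A1
      rw [← RingHom.comp_apply, hc]
      exact A1.algebraMap_mem (a' r)
    | add x y _ _ hx hy => show φ (x + y) ∈ A1; rw [map_add]; exact A1.add_mem hx hy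
    | mul x y _ _ hx hy => show φ (x * y) ∈ A1; rw [map_mul]; exact A1.mul_mem hx hy
  let f : A0 →+* A1 := (φ.comp A0.val.toRingHom).codRestrict A1 hmem
  have hf : Function.Injective f := fun x y h => Subtype.ext (φ.injective (congrArg Subtype.val h))
  let L : Subfield E :=
    { (Subalgebra.algebraicClosure A1 E).toSubring with
      inv_mem' := fun x hx => IsAlgebraic.inv hx }
  have hL : L = ⊤ := by
    refine top_le_iff.1 (hgen ▸ Subfield.closure_le.2 ?_)
    rintro _ (⟨x, rfl⟩ | ⟨x, rfl⟩)
    · exact (Algebra.IsAlgebraic.isAlgebraic (R := A0) x).ringHom_of_comp_eq f φ hf rfl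
    · exact isAlgebraic_algebraMap (⟨ψ x, A1.algebraMap_mem x⟩ : A1)
  haveI : Algebra.IsAlgebraic A1 E := ⟨fun x => (show x ∈ L by rw [hL]; trivial)⟩
  obtain ⟨t, ht, ht'⟩ := exists_isTranscendenceBasis_subset (R := k') (φ '' T)
  rw [← ht'.cardinalMk_eq_trdeg, ← hT.cardinalMk_eq_trdeg]
  exact (Cardinal.mk_le_mk_of_subset ht).trans Cardinal.mk_image_le

omit [Field E] in
/-- A compositum in which a transcendence basis stays independent. -/
theorem exists_compositum :
    ∃ (E : Type u) (_ : Field E) (φ : K →+* E) (ψ : k' →+* E), φ.comp a = ψ.comp a' ∧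
      @Algebra.trdeg k K _ _ a.toAlgebra ≤ @Algebra.trdeg k' (Subfield.closure (Set.range φ ∪ Set.range ψ)) _ _
        (ψ.codRestrict (Subfield.closure (Set.range φ ∪ Set.range ψ)) fun x => Subfield.subset_closure (Or.inr ⟨x, rfl⟩)).toAlgebra := by
  letI := a.toAlgebra
  letI := a'.toAlgebra
  obtain ⟨ι, x, hx⟩ := exists_isTranscendenceBasis' k K
  obtain ⟨E, _, _, ω, hω⟩ : ∃ (E : Type u) (_ : Field E) (_ : IsAlgClosed E) (ω : MvPolynomial ι k' →+* E),
      Function.Injective ω :=
    ⟨AlgebraicClosure (FractionRing (MvPolynomial ι k')), inferInstance, inferInstance,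
      (algebraMap (FractionRing (MvPolynomial ι k')) _).comp (algebraMap (MvPolynomial ι k') _),
      (algebraMap (FractionRing (MvPolynomial ι k')) _).injective.comp (IsFractionRing.injective _ _)⟩
  let ψ : k' →+* E := ω.comp MvPolynomial.C
  let ρ : MvPolynomial ι k →+* E := ω.comp (MvPolynomial.map a')
  have hρ : Function.Injective ρ := hω.comp (MvPolynomial.map_injective a' a'.injective)
  letI : Algebra (MvPolynomial ι k) K := (MvPolynomial.aeval x).toRingHom.toAlgebra
  letI : Algebra (MvPolynomial ι k) E := ρ.toAlgebra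
  haveI : FaithfulSMul (MvPolynomial ι k) K := (faithfulSMul_iff_algebraMap_injective _ K).2 hx.1
  haveI : FaithfulSMul (MvPolynomial ι k) E := (faithfulSMul_iff_algebraMap_injective _ E).2 hρ
  haveI : Algebra.IsAlgebraic (MvPolynomial ι k) K := by
    haveI := hx.isAlgebraic
    refine ⟨fun z => ?_⟩
    let e : Algebra.adjoin k (Set.range x) →+* MvPolynomial ι k := hx.1.aevalEquiv.symm.toRingEquiv.toRingHom
    refine (Algebra.IsAlgebraic.isAlgebraic (R := Algebra.adjoin k (Set.range x)) z).ringHom_of_comp_eq e (RingHom.id K)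
      hx.1.aevalEquiv.symm.injective (RingHom.ext fun y => ?_)
    exact congrArg Subtype.val (hx.1.aevalEquiv.apply_symm_apply y)
  haveI : Module.IsTorsionFree (MvPolynomial ι k) K := Module.IsTorsionFree.mk fun c hc y z h =>
    mul_left_cancel₀ (fun e => hc.ne_zero (hx.1 (e.trans (map_zero (MvPolynomial.aeval x)).symm))) h
  haveI : Module.IsTorsionFree (MvPolynomial ι k) E := Module.IsTorsionFree.mk fun c hc y z h =>
    mul_left_cancel₀ (fun e => hc.ne_zero (hρ (e.trans (map_zero ρ).symm))) h
  let φ : K →ₐ[MvPolynomial ι k] E := IsAlgClosed.lift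
  have hφ : ∀ q, φ (algebraMap (MvPolynomial ι k) K q) = ρ q := fun q => φ.commutes q
  refine ⟨E, inferInstance, φ.toRingHom, ψ, RingHom.ext fun c => ?_, ?_⟩
  · have h := hφ (MvPolynomial.C c)
    rw [show algebraMap (MvPolynomial ι k) K (MvPolynomial.C c) = a c from MvPolynomial.aeval_C x c] at h
    refine h.trans ?_
    simp [ρ, ψ]
  set L := Subfield.closure (Set.range φ.toRingHom ∪ Set.range ψ)
  letI : Algebra k' L := (ψ.codRestrict L fun y => Subfield.subset_closure (Or.inr ⟨y, rfl⟩)).toAlgebra
  let y : ι → L := fun i => ⟨φ (x i), Subfield.subset_closure (Or.inl ⟨x i, rfl⟩)⟩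
  have hy : AlgebraicIndependent k' y := by
    rw [algebraicIndependent_iff_injective_aeval]
    let inc : L →+* E := L.subtype
    have h : inc.comp (MvPolynomial.aeval y : MvPolynomial ι k' →ₐ[k'] L).toRingHom = ω := by
      refine MvPolynomial.ringHom_ext (fun c => ?_) fun i => ?_
      · simp [inc, ψ, RingHom.algebraMap_toAlgebra]
      · have h := hφ (MvPolynomial.X i)
        rw [show algebraMap (MvPolynomial ι k) K (MvPolynomial.X i) = x i from MvPolynomial.aeval_X x i] at h
        simp [inc, y, h, ρ]
    refine Function.Injective.of_comp (f := inc) ?_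
    rw [show (inc ∘ (MvPolynomial.aeval y : MvPolynomial ι k' →ₐ[k'] L)) = ⇑ω from funext fun q => RingHom.congr_fun h q]
    exact hω
  rw [← hx.cardinalMk_eq_trdeg]
  exact hy.cardinalMk_le_trdeg

end Field

section Scheme

variable {X Y S : Scheme.{u}} (f : X ⟶ S) (g : Y ⟶ S)

/-- The residue field of a point of a fibre product is generated by those of its projections. -/
theorem residueField_generated (t : ↥(pullback f g)) :
    Subfield.closure (Set.range ((pullback.fst f g).residueFieldMap t).hom ∪
      Set.range ((pullback.snd f g).residueFieldMap t).hom) = ⊤ := by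
  set L := Subfield.closure (Set.range ((pullback.fst f g).residueFieldMap t).hom ∪
      Set.range ((pullback.snd f g).residueFieldMap t).hom)
  let p₁ : X.residueField (pullback.fst f g t) ⟶ CommRingCat.of L := CommRingCat.ofHom
    (((pullback.fst f g).residueFieldMap t).hom.codRestrict L fun x => Subfield.subset_closure (Or.inl ⟨x, rfl⟩))
  let p₂ : Y.residueField (pullback.snd f g t) ⟶ CommRingCat.of L := CommRingCat.ofHom
    (((pullback.snd f g).residueFieldMap t).hom.codRestrict L fun x => Subfield.subset_closure (Or.inr ⟨x, rfl⟩))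
  let i : CommRingCat.of L ⟶ (pullback f g).residueField t := CommRingCat.ofHom L.subtype
  have h₁ : Spec.map i ≫ Spec.map p₁ ≫ X.fromSpecResidueField _ =
      (pullback f g).fromSpecResidueField t ≫ pullback.fst f g := by
    rw [← Spec.map_comp_assoc]
    exact Scheme.Hom.SpecMap_residueFieldMap_fromSpecResidueField _ t
  have h₂ : Spec.map i ≫ Spec.map p₂ ≫ Y.fromSpecResidueField _ =
      (pullback f g).fromSpecResidueField t ≫ pullback.snd f g := by
    rw [← Spec.map_comp_assoc]
    exact Scheme.Hom.SpecMap_residueFieldMap_fromSpecResidueField _ t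
  haveI : Mono i := by
    refine ConcreteCategory.mono_of_injective _ L.subtype.injective
  haveI : Epi (Spec.map i) := by
    haveI : Flat (Spec.map i) := by
      rw [HasRingHomProperty.Spec_iff (P := @Flat)]
      letI := L.subtype.toAlgebra
      exact inferInstanceAs (Module.Flat L ((pullback f g).residueField t))
    haveI : Surjective (Spec.map i) := ⟨fun q => ⟨default, Subsingleton.elim _ _⟩⟩
    exact Flat.epi_of_flat_of_surjective _
  let γ : Spec (CommRingCat.of L) ⟶ pullback f g := pullback.lift (Spec.map p₁ ≫ X.fromSpecResidueField _)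
    (Spec.map p₂ ≫ Y.fromSpecResidueField _) (by
      refine (cancel_epi (Spec.map i)).1 ?_
      simp only [Category.assoc]
      rw [reassoc_of% h₁, reassoc_of% h₂, pullback.condition])
  have hγ : Spec.map i ≫ γ = (pullback f g).fromSpecResidueField t := by
    apply pullback.hom_ext
    · rw [Category.assoc, pullback.lift_fst, h₁]
    · rw [Category.assoc, pullback.lift_snd, h₂]
  obtain ⟨⟨t', h⟩, hh⟩ := (Scheme.SpecToEquivOfField L (pullback f g)).symm.surjective γ
  change Spec.map h ≫ (pullback f g).fromSpecResidueField t' = γ at hh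
  have ht : t' = t := by
    have e := congrArg (fun m : Spec ((pullback f g).residueField t) ⟶ pullback f g => m default) hγ
    rw [← hh] at e
    simpa [Scheme.fromSpecResidueField_apply] using e
  subst ht
  rw [← hh, ← Spec.map_comp_assoc] at hγ
  have e : h ≫ i = 𝟙 _ := by
    refine Spec.map_injective ((cancel_mono ((pullback f g).fromSpecResidueField t')).1 ?_)
    rw [hγ, Spec.map_id, Category.id_comp]
  refine top_le_iff.1 fun x _ => ?_
  have hx : (L.subtype (h.hom x)) = x := congr($(e).hom x)
  exact hx ▸ (h.hom x).2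

/-- The transcendence degree does not grow under base change. -/
theorem trdeg_le (t : ↥(pullback f g)) :
    @Algebra.trdeg (Y.residueField (pullback.snd f g t)) ((pullback f g).residueField t) _ _
        ((pullback.snd f g).residueFieldMap t).hom.toAlgebra ≤
      @Algebra.trdeg (S.residueField (f (pullback.fst f g t))) (X.residueField (pullback.fst f g t)) _ _
        (f.residueFieldMap (pullback.fst f g t)).hom.toAlgebra := by
  have h : f (pullback.fst f g t) = g (pullback.snd f g t) := by
    rw [← Scheme.Hom.comp_apply, ← Scheme.Hom.comp_apply, pullback.condition]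
  let k₂ : S.residueField (f (pullback.fst f g t)) ⟶ Y.residueField (pullback.snd f g t) :=
    (S.residueFieldCongr h).hom ≫ g.residueFieldMap (pullback.snd f g t)
  have e : f.residueFieldMap (pullback.fst f g t) ≫ (pullback.fst f g).residueFieldMap t =
      k₂ ≫ (pullback.snd f g).residueFieldMap t := by
    refine Spec.map_injective ((cancel_mono (S.fromSpecResidueField _)).1 ?_)
    simp only [k₂, Spec.map_comp, Category.assoc, Scheme.residueFieldCongr_fromSpecResidueField,
      Scheme.Hom.SpecMap_residueFieldMap_fromSpecResidueField,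
      Scheme.Hom.SpecMap_residueFieldMap_fromSpecResidueField_assoc, pullback.condition]
  exact trdeg_le_of_generated (f.residueFieldMap _).hom k₂.hom ((pullback.fst f g).residueFieldMap t).hom
    ((pullback.snd f g).residueFieldMap t).hom (congrArg CommRingCat.Hom.hom e) (residueField_generated f g t)

/-- Some point over a pair keeps the transcendence degree. -/
theorem exists_trdeg_eq (x : X) (y : Y) (hxy : f x = g y) :
    ∃ t : ↥(pullback f g), pullback.fst f g t = x ∧ pullback.snd f g t = y ∧
      @Algebra.trdeg (Y.residueField (pullback.snd f g t)) ((pullback f g).residueField t) _ _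
          ((pullback.snd f g).residueFieldMap t).hom.toAlgebra =
        @Algebra.trdeg (S.residueField (f (pullback.fst f g t))) (X.residueField (pullback.fst f g t)) _ _
          (f.residueFieldMap (pullback.fst f g t)).hom.toAlgebra := by
  let k₂ : S.residueField (f x) ⟶ Y.residueField y := (S.residueFieldCongr hxy).hom ≫ g.residueFieldMap y
  obtain ⟨E, _, φ, ψ, hc, hle⟩ := exists_compositum (f.residueFieldMap x).hom k₂.hom
  let φ' : X.residueField x ⟶ CommRingCat.of E := CommRingCat.ofHom φ
  let ψ' : Y.residueField y ⟶ CommRingCat.of E := CommRingCat.ofHom ψ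
  have hc' : f.residueFieldMap x ≫ φ' = k₂ ≫ ψ' := CommRingCat.hom_ext hc
  let γ : Spec (CommRingCat.of E) ⟶ pullback f g := pullback.lift (Spec.map φ' ≫ X.fromSpecResidueField x)
    (Spec.map ψ' ≫ Y.fromSpecResidueField y) (by
      rw [Category.assoc, Category.assoc, ← Scheme.Hom.SpecMap_residueFieldMap_fromSpecResidueField,
        ← Scheme.Hom.SpecMap_residueFieldMap_fromSpecResidueField, ← Spec.map_comp_assoc, hc',
        Spec.map_comp_assoc]
      simp [k₂, Scheme.residueFieldCongr_fromSpecResidueField])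
  obtain ⟨⟨t, h⟩, hh⟩ := (Scheme.SpecToEquivOfField E (pullback f g)).symm.surjective γ
  change Spec.map h ≫ (pullback f g).fromSpecResidueField t = γ at hh
  have h₁ : Spec.map ((pullback.fst f g).residueFieldMap t ≫ h) ≫ X.fromSpecResidueField _ =
      Spec.map φ' ≫ X.fromSpecResidueField x := by
    rw [Spec.map_comp_assoc, Scheme.Hom.SpecMap_residueFieldMap_fromSpecResidueField, reassoc_of% hh, pullback.lift_fst]
  have h₂ : Spec.map ((pullback.snd f g).residueFieldMap t ≫ h) ≫ Y.fromSpecResidueField _ =
      Spec.map ψ' ≫ Y.fromSpecResidueField y := by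
    rw [Spec.map_comp_assoc, Scheme.Hom.SpecMap_residueFieldMap_fromSpecResidueField, reassoc_of% hh, pullback.lift_snd]
  have ht₁ : pullback.fst f g t = x := by
    have e := congrArg (fun m : Spec (CommRingCat.of E) ⟶ X => m default) h₁
    simpa [Scheme.fromSpecResidueField_apply] using e
  have ht₂ : pullback.snd f g t = y := by
    have e := congrArg (fun m : Spec (CommRingCat.of E) ⟶ Y => m default) h₂
    simpa [Scheme.fromSpecResidueField_apply] using e
  refine ⟨t, ht₁, ht₂, (trdeg_le f g t).antisymm ?_⟩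
  subst ht₁ ht₂
  have e₁ : (pullback.fst f g).residueFieldMap t ≫ h = φ' := Spec.map_injective ((cancel_mono _).1 h₁)
  have e₂ : (pullback.snd f g).residueFieldMap t ≫ h = ψ' := Spec.map_injective ((cancel_mono _).1 h₂)
  have hr₁ : ∀ a, h.hom (((pullback.fst f g).residueFieldMap t).hom a) = φ a := fun a => congr($(e₁).hom a)
  have hr₂ : ∀ a, h.hom (((pullback.snd f g).residueFieldMap t).hom a) = ψ a := fun a => congr($(e₂).hom a)
  have hrange : ∀ z, h.hom z ∈ Subfield.closure (Set.range φ ∪ Set.range ψ) := fun z => by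
    have hz : z ∈ Subfield.closure (Set.range ((pullback.fst f g).residueFieldMap t).hom ∪
        Set.range ((pullback.snd f g).residueFieldMap t).hom) := by
      rw [residueField_generated f g t]; trivial
    refine (Subfield.closure_le (t := (Subfield.closure (Set.range φ ∪ Set.range ψ)).comap h.hom)).2 ?_ hz
    rintro _ (⟨a, rfl⟩ | ⟨a, rfl⟩)
    · exact Subfield.subset_closure (Or.inl ⟨a, (hr₁ a).symm⟩)
    · exact Subfield.subset_closure (Or.inr ⟨a, (hr₂ a).symm⟩)
  letI := ((pullback.snd f g).residueFieldMap t).hom.toAlgebra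
  letI := (ψ.codRestrict (Subfield.closure (Set.range φ ∪ Set.range ψ))
    fun a => Subfield.subset_closure (Or.inr ⟨a, rfl⟩)).toAlgebra
  let hL : (pullback f g).residueField t →ₐ[Y.residueField (pullback.snd f g t)]
      (Subfield.closure (Set.range φ ∪ Set.range ψ)) :=
    { h.hom.codRestrict _ hrange with commutes' := fun a => Subtype.ext (hr₂ a) }
  have hsurj : Function.Surjective hL := fun z => by
    have hz : (z : E) ∈ h.hom.fieldRange := by
      refine Subfield.closure_le.2 ?_ z.2
      rintro _ (⟨a, rfl⟩ | ⟨a, rfl⟩)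
      · exact ⟨_, hr₁ a⟩
      · exact ⟨_, hr₂ a⟩
    obtain ⟨w, hw⟩ := hz
    exact ⟨w, Subtype.ext hw⟩
  exact hle.trans (trdeg_le_of_surjective hL hsurj)

end Scheme

section Dim

variable (A A' : Type u) [CommRing A] [CommRing A'] [IsLocalRing A] [IsLocalRing A'] [IsNoetherianRing A]
  [IsNoetherianRing A'] [Algebra A A'] [Module.FaithfullyFlat A A']

open IsLocalRing

variable (hfib : ∀ q : Ideal A', ∀ _ : q.IsPrime, q.comap (algebraMap A A') = maximalIdeal A → q = maximalIdeal A')

include hfib in
theorem dim_map_eq (p : Ideal A) [p.IsPrime] :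
    ringKrullDim (A' ⧸ p.map (algebraMap A A')) = ringKrullDim (A ⧸ p) := by
  set P := p.map (algebraMap A A')
  have hP : P ≤ maximalIdeal A' := le_maximalIdeal fun h => by
    have := Ideal.comap_map_eq_self_of_faithfullyFlat (B := A') p
    rw [show p.map (algebraMap A A') = ⊤ from h, Ideal.comap_top] at this
    exact Ideal.IsPrime.ne_top ‹_› this.symm
  haveI : Nontrivial (A' ⧸ P) :=
    Ideal.Quotient.nontrivial_iff.2 fun h => (maximalIdeal.isMaximal A').ne_top (top_le_iff.1 (h ▸ hP))
  haveI : IsLocalRing (A' ⧸ P) := .of_surjective' (Ideal.Quotient.mk P) Ideal.Quotient.mk_surjective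
  haveI : IsLocalRing (A ⧸ p) := .of_surjective' (Ideal.Quotient.mk p) Ideal.Quotient.mk_surjective
  haveI : Algebra.HasGoingDown (A ⧸ p) (A' ⧸ P) := Synt29.hasGoingDown_quotient (P := A) (P' := A') p
  haveI : IsLocalHom (Ideal.Quotient.mk P) := .of_surjective _ Ideal.Quotient.mk_surjective
  haveI : IsLocalHom (Ideal.Quotient.mk p) := .of_surjective _ Ideal.Quotient.mk_surjective
  haveI : IsLocalHom (algebraMap (A ⧸ p) (A' ⧸ P)) := by
    refine ⟨fun x hx => ?_⟩
    obtain ⟨x, rfl⟩ := Ideal.Quotient.mk_surjective x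
    by_contra hn
    have hxm : x ∈ maximalIdeal A := fun hu => hn (hu.map _)
    have hxm' : algebraMap A A' x ∈ maximalIdeal A' :=
      le_maximalIdeal (fun h => by
        have := Ideal.comap_map_eq_self_of_faithfullyFlat (B := A') (maximalIdeal A)
        rw [h, Ideal.comap_top] at this
        exact (maximalIdeal.isMaximal A).ne_top this.symm) (Ideal.mem_map_of_mem _ hxm)
    exact (maximalIdeal.isMaximal A').ne_top (Ideal.eq_top_of_isUnit_mem _ hxm'
      ((isUnit_map_iff (Ideal.Quotient.mk P) _).1 hx))
  rw [Synt29.ringKrullDim_eq_add_of_hasGoingDown (A := A ⧸ p) (A' := A' ⧸ P)]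
  suffices h : ringKrullDim ((A' ⧸ P) ⧸ (maximalIdeal (A ⧸ p)).map (algebraMap (A ⧸ p) (A' ⧸ P))) = 0 by
    rw [h, add_zero]
  set J := (maximalIdeal (A ⧸ p)).map (algebraMap (A ⧸ p) (A' ⧸ P))
  haveI : Nontrivial ((A' ⧸ P) ⧸ J) := Ideal.Quotient.nontrivial_iff.2 fun h =>
    (maximalIdeal.isMaximal (A' ⧸ P)).ne_top (top_le_iff.1 (h ▸ Ideal.map_le_iff_le_comap.2
      (maximalIdeal_comap (algebraMap (A ⧸ p) (A' ⧸ P))).ge))
  refine le_antisymm (Ring.krullDimLE_iff.1 (Ring.KrullDimLE.mk₀ fun q hq => ?_)) ringKrullDim_nonneg_of_nontrivial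
  haveI := hq
  let r : Ideal A' := q.comap ((Ideal.Quotient.mk J).comp (Ideal.Quotient.mk P))
  haveI : r.IsPrime := Ideal.comap_isPrime _ _
  have hr : r = maximalIdeal A' := by
    refine hfib r inferInstance (le_antisymm (le_maximalIdeal (Ideal.IsPrime.ne_top ?_)) fun x hx => ?_)
    · exact Ideal.comap_isPrime _ _
    · show Ideal.Quotient.mk J (Ideal.Quotient.mk P (algebraMap A A' x)) ∈ q
      rw [show Ideal.Quotient.mk J (Ideal.Quotient.mk P (algebraMap A A' x)) = 0 from
        Ideal.Quotient.eq_zero_iff_mem.2 (Ideal.mem_map_of_mem _ (show Ideal.Quotient.mk p x ∈ maximalIdeal (A ⧸ p) from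
          map_nonunit (Ideal.Quotient.mk p) x hx))]
      exact q.zero_mem
  have hs : Function.Surjective ((Ideal.Quotient.mk J).comp (Ideal.Quotient.mk P)) :=
    Ideal.Quotient.mk_surjective.comp Ideal.Quotient.mk_surjective
  have hmap := (Ideal.map_eq_top_or_isMaximal_of_surjective _ hs (maximalIdeal.isMaximal A'))
  rw [← hr, Ideal.map_comap_of_surjective _ hs] at hmap
  exact hmap.resolve_left hq.ne_top

include hfib in
theorem dim_le (q : Ideal A') [q.IsPrime] :
    ringKrullDim (A' ⧸ q) ≤ ringKrullDim (A ⧸ q.comap (algebraMap A A')) := by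
  rw [← dim_map_eq A A' hfib (q.comap (algebraMap A A'))]
  exact ringKrullDim_le_of_surjective (Ideal.Quotient.factor Ideal.map_comap_le)
    (Ideal.Quotient.factor_surjective _)

include hfib in
theorem exists_dim_eq (p : Ideal A) [p.IsPrime] :
    ∃ q : Ideal A', ∃ _ : q.IsPrime, q.comap (algebraMap A A') = p ∧
      ringKrullDim (A' ⧸ q) = ringKrullDim (A ⧸ p) := by
  set P := p.map (algebraMap A A')
  have hd := dim_map_eq A A' hfib p
  haveI : Nontrivial (A' ⧸ P) := Ideal.Quotient.nontrivial_iff.2 fun h => by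
    have := Ideal.comap_map_eq_self_of_faithfullyFlat (B := A') p
    rw [show p.map (algebraMap A A') = ⊤ from h, Ideal.comap_top] at this
    exact Ideal.IsPrime.ne_top ‹_› this.symm
  haveI : IsLocalRing (A' ⧸ P) := .of_surjective' (Ideal.Quotient.mk P) Ideal.Quotient.mk_surjective
  obtain ⟨n, hn⟩ : ∃ n : ℕ, ringKrullDim (A' ⧸ P) = n := by
    haveI : FiniteRingKrullDim (A' ⧸ P) := inferInstance
    exact ⟨_, Order.krullDim_eq_length_of_finiteDimensionalOrder⟩
  obtain ⟨l, hl⟩ := Order.le_krullDim_iff.1 hn.ge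
  let q : Ideal A' := l.head.asIdeal.comap (Ideal.Quotient.mk P)
  haveI : q.IsPrime := Ideal.comap_isPrime _ _
  have hPq : P ≤ q := fun x hx => by
    show Ideal.Quotient.mk P x ∈ l.head.asIdeal
    rw [Ideal.Quotient.eq_zero_iff_mem.2 hx]
    exact Ideal.zero_mem _
  have hge : (n : WithBot ℕ∞) ≤ ringKrullDim (A' ⧸ q) := by
    let e := Ideal.primeSpectrumQuotientOrderIsoZeroLocus q
    refine Order.le_krullDim_iff.2 ⟨⟨l.length, fun i => e.symm ⟨⟨(l i).asIdeal.comap (Ideal.Quotient.mk P),
      Ideal.comap_isPrime _ _⟩, Ideal.comap_mono (LTSeries.monotone l (Fin.zero_le i))⟩, fun i => ?_⟩, hl⟩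
    refine e.symm.strictMono (lt_of_le_of_ne (Ideal.comap_mono (l.step i).le) fun h => ?_)
    exact (l.step i).ne (PrimeSpectrum.ext (Ideal.comap_injective_of_surjective _ Ideal.Quotient.mk_surjective
      (congrArg PrimeSpectrum.asIdeal (congrArg Subtype.val h))))
  have hqp : q.comap (algebraMap A A') = p := by
    refine le_antisymm ?_ (Ideal.map_le_iff_le_comap.1 hPq)
    by_contra hne
    obtain ⟨q₀, hlt, hq₀, hover⟩ := Ideal.exists_ideal_lt_liesOver_of_lt (p := p) (q := q.comap (algebraMap A A')) q
      (lt_of_le_not_ge (Ideal.map_le_iff_le_comap.1 hPq) hne)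
    have hPq₀ : P ≤ q₀ := Ideal.map_le_iff_le_comap.2 hover.over.le
    let e := Ideal.primeSpectrumQuotientOrderIsoZeroLocus P
    have hlt' : e.symm ⟨⟨q₀, hq₀⟩, hPq₀⟩ < l.head := by
      refine e.lt_iff_lt.1 ?_
      rw [OrderIso.apply_symm_apply]
      exact hlt
    have := (Order.LTSeries.length_le_krullDim (l.cons (e.symm ⟨⟨q₀, hq₀⟩, hPq₀⟩) hlt')).trans_eq hn
    simp [hl] at this
    exact absurd (show n + 1 ≤ n by exact_mod_cast this) (by omega)
  refine ⟨q, inferInstance, hqp, le_antisymm ((dim_le A A' hfib q).trans_eq ?_) ?_⟩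
  · rw [hqp]
  · rw [← hd, hn]; exact hge

end Dim

end Groth.Agent.DeltaFF
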