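import Groth.Agent.DeltaFF.Basic
import Groth.Agent.DimFormula.Order
import Groth.Agent.H9KaehlerGen.Basic
import Groth.Agent.H9PB.RegPoint
import Groth.Agent.LC.CodimPropagate
import Groth.Agent.LC.FiniteCrit
import Groth.Prelude.Def_Found
import Mathlib.RingTheory.MvPolynomial.Localization

/-!
# Relative codimension along flat maps from Cohen–Macaulay rings
-/

set_option autoImplicit false
set_option linter.style.haveILetI false

universe u

open Order IsLocalRing
open scoped TensorProduct

namespace Groth.Agent.DeltaFF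

attribute [local instance] MvPolynomial.algebraMvPolynomial

/-- In a catenary Noetherian ring relative heights are subadditive. -/
theorem height_Ici_add_le {R : Type u} [CommRing R] [IsNoetherianRing R] (hcat : CAlg.IsCatenary R)
    {P S Q : PrimeSpectrum R} (hPS : P ≤ S) (hSQ : S ≤ Q) :
    height (⟨Q, hPS.trans hSQ⟩ : Set.Ici P) ≤ height (⟨S, hPS⟩ : Set.Ici P) + height (⟨Q, hSQ⟩ : Set.Ici S) := by
  have sat : ∀ (P Q : PrimeSpectrum R) (h : P ≤ Q), ∃ l : LTSeries (PrimeSpectrum R), l.head = P ∧ l.last = Q ∧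
      (∀ i : Fin l.length, l i.castSucc ⋖ l i.succ) ∧ height (⟨Q, h⟩ : Set.Ici P) = l.length := by
    intro P Q h
    have hfin : height (⟨Q, h⟩ : Set.Ici P) ≠ ⊤ := by
      rw [LC.height_Ici_eq P Q h]
      haveI : (Q.asIdeal.map (Ideal.Quotient.mk P.asIdeal)).IsPrime :=
        Ideal.map_isPrime_of_surjective Ideal.Quotient.mk_surjective (by rw [Ideal.mk_ker]; exact h)
      exact Ideal.height_ne_top (Ideal.IsPrime.ne_top ‹_›)
    obtain ⟨n, hn⟩ := ENat.ne_top_iff_exists.1 hfin
    obtain ⟨l, hl, hlen, hsat, hhead⟩ := DimFormula.exists_saturated_series hn.symm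
    have hp : l.head = ⟨P, le_refl P⟩ := by
      have := height_eq_zero.1 hhead (show (⟨P, le_refl P⟩ : ↥(Set.Ici P)) ≤ l.head from l.head.2)
      exact Subtype.ext (le_antisymm this l.head.2)
    refine ⟨l.map Subtype.val fun _ _ h => h, congrArg Subtype.val hp, congrArg Subtype.val hl, fun j => ?_, ?_⟩
    · exact ⟨(hsat j).lt, fun z hz hz' => (hsat j).2
        (show l j.castSucc < (⟨z, le_trans (l j.castSucc).2 hz.le⟩ : ↥(Set.Ici P)) from hz) hz'⟩
    · rw [← hn, ← hlen]
      rfl
  obtain ⟨l₁, h₁, g₁, s₁, e₁⟩ := sat P S hPS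
  obtain ⟨l₂, h₂, g₂, s₂, e₂⟩ := sat S Q hSQ
  obtain ⟨l₃, h₃, g₃, s₃, e₃⟩ := sat P Q (hPS.trans hSQ)
  have hsm : l₁.last = l₂.head := g₁.trans h₂.symm
  have hlen := hcat.2 (l₁.smash l₂ hsm) l₃ (by rw [RelSeries.head_smash, h₁, h₃])
    (by rw [RelSeries.last_smash, g₂, g₃]) ?_ s₃
  · rw [e₁, e₂, e₃, ← hlen, RelSeries.smash_length, Nat.cast_add]
  intro i
  refine Fin.addCases (fun j => ?_) (fun j => ?_) i
  · exact (congrArg₂ (· ⋖ ·) (RelSeries.smash_castAdd hsm j) (RelSeries.smash_succ_castAdd hsm j)).mpr (s₁ j)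
  · exact (congrArg₂ (· ⋖ ·) (RelSeries.smash_natAdd hsm j) (RelSeries.smash_succ_natAdd hsm j)).mpr (s₂ j)

/-- Over a Cohen–Macaulay base the primes minimal over an extended prime see all of its chains. -/
theorem cm_bound {A A' : Type u} [CommRing A] [CommRing A'] [IsNoetherianRing A'] [Algebra A A'] [Module.Flat A A']
    (hcm : LocCoh.IsCohenMacaulayRing A) (m Q : Ideal A') [m.IsPrime] [Q.IsPrime] (hmQ : m ≤ Q)
    (hm : m ∈ ((m.comap (algebraMap A A')).map (algebraMap A A')).minimalPrimes) :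
    ((Q.comap (algebraMap A A')).map (Ideal.Quotient.mk (m.comap (algebraMap A A')))).height ≤
      (Q.map (Ideal.Quotient.mk m)).height := by
  haveI := hcm
  haveI : IsNoetherianRing A := inferInstance
  set q := Q.comap (algebraMap A A') with hq
  set p := m.comap (algebraMap A A') with hp
  haveI := hcm.isCohenMacaulayLocalRing_localization q
  have hsum := LC.height_add_height_quotient_le p q (Ideal.comap_mono hmQ)
  have hdq : (LocCoh.depth (Localization.AtPrime q) (Localization.AtPrime q) : ℕ∞) = q.height := by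
    have h : Module.supportDim (Localization.AtPrime q) (Localization.AtPrime q) =
        ((LocCoh.depth (Localization.AtPrime q) (Localization.AtPrime q) : ℕ∞) : WithBot ℕ∞) :=
      LocCoh.IsCohenMacaulayLocalRing.supportDim_eq_depth
    rw [Module.supportDim_self_eq_ringKrullDim, IsLocalization.AtPrime.ringKrullDim_eq_height q _] at h
    exact (WithBot.coe_injective h).symm
  obtain ⟨d, hd⟩ := ENat.ne_top_iff_exists.1 (show q.height ≠ ⊤ from Ideal.height_ne_top (Ideal.IsPrime.ne_top inferInstance))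
  have h1 : (d : ℕ∞) ≤ LocCoh.depth (Localization.AtPrime Q) (Localization.AtPrime Q) :=
    H9PB.le_depth_of_flat (Localization.localRingHom q Q (algebraMap A A') rfl)
      (RingHom.Flat.localRingHom (f := algebraMap A A') ((RingHom.flat_algebraMap_iff).2 inferInstance) Q q rfl)
      (by rw [hdq, hd])
  have h2 := LC.depth_localized_le_add_height A' m Q hmQ
  rw [show LocCoh.depth (Localization.AtPrime Q) (LocalizedModule Q.primeCompl A') =
    LocCoh.depth (Localization.AtPrime Q) (Localization.AtPrime Q) from LC.idealDepth_congr _ (LC.selfLoc Q.primeCompl)] at h2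
  rw [show LocCoh.depth (Localization.AtPrime m) (LocalizedModule m.primeCompl A') =
    LocCoh.depth (Localization.AtPrime m) (Localization.AtPrime m) from LC.idealDepth_congr _ (LC.selfLoc m.primeCompl)] at h2
  have h3 : (LocCoh.depth (Localization.AtPrime m) (Localization.AtPrime m) : ℕ∞) ≤ m.height := by
    have := LC.depth_le_supportDim (R := Localization.AtPrime m) (Localization.AtPrime m)
    rw [Module.supportDim_self_eq_ringKrullDim, IsLocalization.AtPrime.ringKrullDim_eq_height m _] at this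
    exact_mod_cast this
  haveI : m.LiesOver p := ⟨rfl⟩
  have h4 : m.height = p.height := by
    rw [Ideal.height_eq_height_add_of_liesOver_of_hasGoingDown p m]
    haveI : (m.map (Ideal.Quotient.mk (p.map (algebraMap A A')))).IsPrime :=
      Ideal.map_isPrime_of_surjective Ideal.Quotient.mk_surjective (by rw [Ideal.mk_ker]; exact hm.1.2)
    rw [(Ideal.height_eq_zero_iff (I := m.map (Ideal.Quotient.mk (p.map (algebraMap A A'))))).2 ?_, add_zero]
    refine ⟨⟨inferInstance, bot_le⟩, fun J hJ hle => ?_⟩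
    haveI := hJ.1
    have hJ' : J.comap (Ideal.Quotient.mk (p.map (algebraMap A A'))) ≤ m := by
      refine (Ideal.comap_mono hle).trans ?_
      rw [Ideal.comap_map_of_surjective' _ Ideal.Quotient.mk_surjective, Ideal.mk_ker]
      exact sup_le le_rfl hm.1.2
    have := hm.2 ⟨Ideal.comap_isPrime _ J, fun z hz => by
      show Ideal.Quotient.mk _ z ∈ J
      rw [Ideal.Quotient.eq_zero_iff_mem.2 hz]; exact J.zero_mem⟩ hJ'
    exact (Ideal.map_mono this).trans Ideal.map_comap_le
  have hfin : p.height ≠ ⊤ := Ideal.height_ne_top (Ideal.IsPrime.ne_top inferInstance)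
  have h5 : q.height ≤ p.height + (Q.map (Ideal.Quotient.mk m)).height := by
    rw [← hd]
    exact h1.trans (h2.trans (add_le_add (h3.trans_eq h4) le_rfl))
  exact (ENat.add_le_add_iff_left hfin).1 (hsum.trans h5)

/-- A pushout of rings with the second leg flat. -/
theorem exists_pushout {R C K : Type u} [CommRing R] [CommRing C] [CommRing K] (f : R →+* C) (g : R →+* K) (hg : g.Flat) :
    ∃ (B : Type u) (_ : CommRing B) (j₁ : C →+* B) (j₂ : K →+* B), j₁.comp f = j₂.comp g ∧ j₁.Flat ∧
      (∀ S : Subring B, Set.range j₁ ⊆ S → Set.range j₂ ⊆ S → S = ⊤) ∧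
      ∀ (E : Type u) [CommRing E] (a : C →+* E) (c : K →+* E), a.comp f = c.comp g →
        ∃ h : B →+* E, h.comp j₁ = a ∧ h.comp j₂ = c := by
  letI := f.toAlgebra
  letI := g.toAlgebra
  haveI : Module.Flat R K := hg
  refine ⟨C ⊗[R] K, inferInstance, Algebra.TensorProduct.includeLeftRingHom,
    (Algebra.TensorProduct.includeRight : K →ₐ[R] C ⊗[R] K).toRingHom, ?_, ?_, fun S h₁ h₂ => ?_, fun E _ a c h => ?_⟩
  · ext r
    exact (Algebra.TensorProduct.includeRight : K →ₐ[R] C ⊗[R] K).commutes r |>.symm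
  · rw [show (Algebra.TensorProduct.includeLeftRingHom : C →+* C ⊗[R] K) = algebraMap C (C ⊗[R] K) from rfl,
      RingHom.flat_algebraMap_iff]
    infer_instance
  · refine top_le_iff.1 fun z _ => ?_
    induction z using TensorProduct.induction_on with
    | zero => exact S.zero_mem
    | tmul x y =>
      rw [show x ⊗ₜ[R] y = (x ⊗ₜ[R] (1 : K)) * ((1 : C) ⊗ₜ[R] y) by
        rw [Algebra.TensorProduct.tmul_mul_tmul, mul_one, one_mul]]
      exact S.mul_mem (h₁ ⟨x, rfl⟩) (h₂ ⟨y, rfl⟩)
    | add x y hx hy => exact S.add_mem (hx trivial) (hy trivial)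
  · letI := (a.comp f).toAlgebra
    let a' : C →ₐ[R] E := { a with commutes' := fun r => rfl }
    let c' : K →ₐ[R] E := { c with commutes' := fun r => (RingHom.congr_fun h r).symm }
    refine ⟨(Algebra.TensorProduct.productMap a' c').toRingHom, RingHom.ext fun x => ?_, RingHom.ext fun y => ?_⟩
    · simp [a']
    · simp [c']

/-- The fibre of a base change contains the expected chains. -/
theorem fibre_bound {A A' K E : Type u} [CommRing A] [CommRing A'] [IsNoetherianRing A'] [Algebra A A'] [Field K]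
    [Algebra A K] [Field E] (s' : Ideal A') [s'.IsPrime] (φ : K →+* E) (ψ : s'.ResidueField →+* E)
    (hc : (ψ.comp (algebraMap A' s'.ResidueField)).comp (algebraMap A A') = φ.comp (algebraMap A K))
    (m : Ideal A') [m.IsPrime] (hms : m ≤ s') (hm : (RingHom.ker (algebraMap A K)).map (algebraMap A A') ≤ m)
    {n : ℕ} (x : Fin n → K)
    (hx : Function.Injective (MvPolynomial.eval₂Hom (RingHom.kerLift (algebraMap A K)) x))
    (t : ℕ) (ht : @Algebra.trdeg s'.ResidueField E _ _ ψ.toAlgebra ≤ t)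
    (Θ : A' ⊗[A] K →+* E) (hΘ₁ : ∀ a, Θ (a ⊗ₜ 1) = ψ (algebraMap A' _ a)) (hΘ₂ : ∀ y, Θ (1 ⊗ₜ y) = φ y) :
    (s'.map (Ideal.Quotient.mk m)).height + n ≤ (RingHom.ker Θ).height + t := by
  let I₀ := RingHom.ker (algebraMap A K)
  let J := I₀.map (algebraMap A A')
  let f₀ : A ⧸ I₀ →+* A' ⧸ J := Ideal.quotientMap J (algebraMap A A') Ideal.le_comap_map
  let g : MvPolynomial (Fin n) (A ⧸ I₀) →+* K := MvPolynomial.eval₂Hom (RingHom.kerLift (algebraMap A K)) x
  have hg : g.Flat := by
    letI := g.toAlgebra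
    haveI : IsDomain (A ⧸ I₀) := (RingHom.kerLift_injective (algebraMap A K)).isDomain
    let L := FractionRing (MvPolynomial (Fin n) (A ⧸ I₀))
    letI : Algebra L K := (IsFractionRing.lift (A := MvPolynomial (Fin n) (A ⧸ I₀)) hx).toAlgebra
    haveI : IsScalarTower (MvPolynomial (Fin n) (A ⧸ I₀)) L K :=
      IsScalarTower.of_algebraMap_eq fun r => (IsFractionRing.lift_algebraMap hx r).symm
    exact Module.Flat.trans (MvPolynomial (Fin n) (A ⧸ I₀)) L K
  obtain ⟨B, _, j₁, j₂, hj, hfl, hgen, huniv⟩ := exists_pushout (MvPolynomial.map f₀) g hg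
  have hsJ : J ≤ s' := hm.trans hms
  let χ : A' ⧸ J →+* E := Ideal.Quotient.lift J (ψ.comp (algebraMap A' s'.ResidueField)) fun a ha => by
    rw [RingHom.comp_apply, Ideal.algebraMap_residueField_eq_zero.2 (hsJ ha), map_zero]
  let y : Fin n → E := fun i => φ (x i)
  have hagree : (MvPolynomial.eval₂Hom χ y).comp (MvPolynomial.map f₀) = φ.comp g := by
    refine MvPolynomial.ringHom_ext (fun r => ?_) fun i => ?_
    · obtain ⟨r, rfl⟩ := Ideal.Quotient.mk_surjective r
      simp only [RingHom.comp_apply, MvPolynomial.map_C, MvPolynomial.eval₂Hom_C, g]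
      exact RingHom.congr_fun hc r
    · simp [g, y]
  obtain ⟨h, hh₁, hh₂⟩ := huniv E (MvPolynomial.eval₂Hom χ y) φ hagree
  -- the surjection from the fibre ring
  letI : Algebra A B := (j₂.comp (algebraMap A K)).toAlgebra
  let a₁ : A' →ₐ[A] B :=
    { (j₁.comp MvPolynomial.C).comp (Ideal.Quotient.mk J) with
      commutes' := fun a => by
        have := RingHom.congr_fun hj (MvPolynomial.C (Ideal.Quotient.mk I₀ a))
        simp only [RingHom.comp_apply, MvPolynomial.map_C, g, MvPolynomial.eval₂Hom_C] at this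
        exact this }
  let a₂ : K →ₐ[A] B := { j₂ with commutes' := fun a => rfl }
  let Φ := (Algebra.TensorProduct.productMap a₁ a₂).toRingHom
  have hΦ₁ : ∀ a : A', Φ (a ⊗ₜ 1) = j₁ (MvPolynomial.C (Ideal.Quotient.mk J a)) := fun a => by
    show (Algebra.TensorProduct.productMap a₁ a₂) (a ⊗ₜ 1) = _
    rw [Algebra.TensorProduct.productMap_apply_tmul, map_one, mul_one]
    rfl
  have hΦ₂ : ∀ c : K, Φ (1 ⊗ₜ c) = j₂ c := fun c => by
    show (Algebra.TensorProduct.productMap a₁ a₂) (1 ⊗ₜ c) = _
    rw [Algebra.TensorProduct.productMap_apply_tmul, map_one, one_mul]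
    rfl
  have hΦ : Function.Surjective Φ := by
    rw [← RingHom.range_eq_top]
    refine hgen _ ?_ ?_
    · rintro _ ⟨z, rfl⟩
      induction z using MvPolynomial.induction_on with
      | C r =>
        obtain ⟨r, rfl⟩ := Ideal.Quotient.mk_surjective r
        exact ⟨r ⊗ₜ 1, hΦ₁ r⟩
      | add p q hp hq => rw [map_add]; exact Subring.add_mem _ hp hq
      | mul_X p i hp =>
        rw [map_mul]
        refine Subring.mul_mem _ hp ⟨1 ⊗ₜ x i, ?_⟩
        have := RingHom.congr_fun hj (MvPolynomial.X i)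
        simp only [RingHom.comp_apply, MvPolynomial.map_X, g, MvPolynomial.eval₂Hom_X'] at this
        rw [hΦ₂, ← this]
    · rintro _ ⟨z, rfl⟩
      exact ⟨1 ⊗ₜ z, hΦ₂ z⟩
  have hker : (RingHom.ker h).comap Φ = RingHom.ker Θ := by
    rw [RingHom.comap_ker]
    refine congrArg RingHom.ker (RingHom.ext fun z => ?_)
    induction z using TensorProduct.induction_on with
    | zero => simp
    | tmul a c =>
      have e : (a ⊗ₜ c : A' ⊗[A] K) = (a ⊗ₜ 1) * (1 ⊗ₜ c) := by
        rw [Algebra.TensorProduct.tmul_mul_tmul, mul_one, one_mul]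
      rw [e, map_mul, map_mul, hΘ₁, hΘ₂, RingHom.comp_apply, RingHom.comp_apply, hΦ₁, hΦ₂]
      have e₁ := RingHom.congr_fun hh₁ (MvPolynomial.C (Ideal.Quotient.mk J a))
      have e₂ := RingHom.congr_fun hh₂ c
      simp only [RingHom.comp_apply, MvPolynomial.eval₂Hom_C] at e₁ e₂
      rw [e₁, e₂]
      simp [χ]
    | add a c ha hc => rw [map_add, map_add, ha, hc]
  haveI : (RingHom.ker h).IsPrime := RingHom.ker_isPrime h
  have hB : (RingHom.ker h).height ≤ (RingHom.ker Θ).height := by
    haveI : (RingHom.ker Θ).IsPrime := RingHom.ker_isPrime Θ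
    rw [(⟨RingHom.ker h, inferInstance⟩ : PrimeSpectrum B).height_eq_orderHeight,
      (⟨RingHom.ker Θ, inferInstance⟩ : PrimeSpectrum (A' ⊗[A] K)).height_eq_orderHeight]
    refine (Order.height_le_height_apply_of_strictMono (PrimeSpectrum.comap Φ)
      (RingHom.strictMono_comap_of_surjective hΦ) _).trans_eq ?_
    congr 1
    exact PrimeSpectrum.ext hker
  -- going down
  letI := j₁.toAlgebra
  haveI : Module.Flat (MvPolynomial (Fin n) (A' ⧸ J)) B := hfl
  let P₀ := RingHom.ker (MvPolynomial.eval₂Hom χ y)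
  haveI : P₀.IsPrime := RingHom.ker_isPrime _
  have hP₀B : P₀.height ≤ (RingHom.ker h).height := by
    haveI : (RingHom.ker h).LiesOver P₀ := ⟨by rw [Ideal.under_def, RingHom.comap_ker]; exact congrArg RingHom.ker hh₁.symm⟩
    obtain ⟨l, hl, hlen⟩ := P₀.exists_ltSeries_length_eq_height
    haveI : (RingHom.ker h).LiesOver l.last.asIdeal := by rw [hl]; infer_instance
    obtain ⟨L, hL, hL', -⟩ := Ideal.exists_ltSeries_of_hasGoingDown l (RingHom.ker h)
    rw [← hlen, ← hL, (⟨RingHom.ker h, inferInstance⟩ : PrimeSpectrum B).height_eq_orderHeight, ← hL']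
    exact Order.length_le_height_last
  -- inside the polynomial ring
  let s₀ := P₀.comap (MvPolynomial.C : A' ⧸ J →+* MvPolynomial (Fin n) (A' ⧸ J))
  haveI : s₀.IsPrime := Ideal.comap_isPrime _ _
  haveI : P₀.LiesOver s₀ := ⟨rfl⟩
  haveI : Module.Flat (A' ⧸ J) (MvPolynomial (Fin n) (A' ⧸ J)) := inferInstance
  have hP₀ := Ideal.height_eq_height_add_of_liesOver_of_hasGoingDown s₀ P₀
  have hχker : RingHom.ker χ = s'.map (Ideal.Quotient.mk J) := by
    have : (RingHom.ker χ).comap (Ideal.Quotient.mk J) = s' := by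
      ext a
      simp [RingHom.mem_ker, χ]
    rw [← this, Ideal.map_comap_of_surjective _ Ideal.Quotient.mk_surjective]
  have hs₀eq : s₀ = RingHom.ker χ := by
    ext a
    simp [s₀, P₀, RingHom.mem_ker]
  have hs₀ : (s'.map (Ideal.Quotient.mk m)).height ≤ s₀.height := by
    haveI : (s'.map (Ideal.Quotient.mk m)).IsPrime :=
      Ideal.map_isPrime_of_surjective Ideal.Quotient.mk_surjective (by rw [Ideal.mk_ker]; exact hms)
    rw [(⟨s'.map (Ideal.Quotient.mk m), inferInstance⟩ : PrimeSpectrum (A' ⧸ m)).height_eq_orderHeight,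
      (⟨s₀, inferInstance⟩ : PrimeSpectrum (A' ⧸ J)).height_eq_orderHeight]
    refine (Order.height_le_height_apply_of_strictMono (PrimeSpectrum.comap (Ideal.Quotient.factor hm))
      (RingHom.strictMono_comap_of_surjective (Ideal.Quotient.factor_surjective hm)) _).trans_eq ?_
    congr 1
    refine PrimeSpectrum.ext ?_
    show (s'.map (Ideal.Quotient.mk m)).comap (Ideal.Quotient.factor hm) = s₀
    rw [hs₀eq, hχker, ← Ideal.map_comap_of_surjective _ Ideal.Quotient.mk_surjective
      ((s'.map (Ideal.Quotient.mk m)).comap (Ideal.Quotient.factor hm)), Ideal.comap_comap, Ideal.Quotient.factor_comp_mk,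
      Ideal.comap_map_of_surjective' _ Ideal.Quotient.mk_surjective, Ideal.mk_ker, sup_eq_left.2 hms]
  -- the fibre over `s₀`
  let k' := s'.ResidueField
  letI : Algebra k' E := ψ.toAlgebra
  let ev : MvPolynomial (Fin n) k' →ₐ[k'] E := MvPolynomial.aeval y
  let P₁ := RingHom.ker ev.toRingHom
  haveI : P₁.IsPrime := RingHom.ker_isPrime _
  let π : A' ⧸ J →+* A' ⧸ s' := Ideal.Quotient.factor hsJ
  let G : MvPolynomial (Fin n) (A' ⧸ J) →+* MvPolynomial (Fin n) k' :=
    (MvPolynomial.map (algebraMap (A' ⧸ s') k')).comp (MvPolynomial.map π)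
  have hG : Function.Injective (PrimeSpectrum.comap G) := by
    rw [PrimeSpectrum.comap_comp]
    refine (PrimeSpectrum.comap_injective_of_surjective _ (MvPolynomial.map_surjective _
      (Ideal.Quotient.factor_surjective hsJ))).comp ?_
    exact PrimeSpectrum.localization_comap_injective (MvPolynomial (Fin n) k')
      ((nonZeroDivisors (A' ⧸ s')).map (MvPolynomial.C (σ := Fin n)))
  have hGv : ev.toRingHom.comp G = MvPolynomial.eval₂Hom χ y := by
    refine MvPolynomial.ringHom_ext (fun r => ?_) fun i => ?_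
    · obtain ⟨r, rfl⟩ := Ideal.Quotient.mk_surjective r
      simp only [G, π, ev, RingHom.comp_apply, MvPolynomial.map_C, AlgHom.toRingHom_eq_coe, RingHom.coe_coe,
        MvPolynomial.aeval_C, MvPolynomial.eval₂Hom_C, Ideal.Quotient.factor_mk, χ, Ideal.Quotient.lift_mk,
        RingHom.algebraMap_toAlgebra]
      rfl
    · simp [G, ev, y]
  have hP₁ : P₁.height ≤ (P₀.map (Ideal.Quotient.mk (s₀.map (MvPolynomial.C : A' ⧸ J →+* _)))).height := by
    have hs0G : s₀.map (MvPolynomial.C : A' ⧸ J →+* _) ≤ RingHom.ker G := by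
      rw [Ideal.map_le_iff_le_comap, hs₀eq, hχker, Ideal.map_le_iff_le_comap]
      intro a ha
      simp [RingHom.mem_ker, G, π, Ideal.Quotient.eq_zero_iff_mem.2 ha]
    let G' : MvPolynomial (Fin n) (A' ⧸ J) ⧸ s₀.map (MvPolynomial.C : A' ⧸ J →+* _) →+* MvPolynomial (Fin n) k' :=
      Ideal.Quotient.lift _ G fun a ha => RingHom.mem_ker.1 (hs0G ha)
    have hG' : StrictMono (PrimeSpectrum.comap (R := MvPolynomial (Fin n) (A' ⧸ J) ⧸ s₀.map (MvPolynomial.C : A' ⧸ J →+* _))
      (S := MvPolynomial (Fin n) k') G') := by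
      refine Monotone.strictMono_of_injective (fun a b hab => Ideal.comap_mono hab) fun a b hab => hG ?_
      exact congrArg (PrimeSpectrum.comap (Ideal.Quotient.mk _)) hab
    haveI hP' : (P₀.map (Ideal.Quotient.mk (s₀.map (MvPolynomial.C : A' ⧸ J →+* _)))).IsPrime :=
      Ideal.map_isPrime_of_surjective Ideal.Quotient.mk_surjective (by
        rw [Ideal.mk_ker]; exact Ideal.map_comap_le)
    rw [(⟨P₁, inferInstance⟩ : PrimeSpectrum _).height_eq_orderHeight,
      (⟨_, hP'⟩ : PrimeSpectrum _).height_eq_orderHeight]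
    refine (Order.height_le_height_apply_of_strictMono _ hG' _).trans_eq ?_
    congr 1
    refine PrimeSpectrum.ext ?_
    show P₁.comap G' = _
    rw [← Ideal.map_comap_of_surjective _ Ideal.Quotient.mk_surjective (P₁.comap G'), Ideal.comap_comap,
      show G'.comp (Ideal.Quotient.mk _) = G from RingHom.ext fun _ => rfl, RingHom.comap_ker, hGv]
  obtain ⟨a, b, ha, hb, hab⟩ := H9KaehlerGen.height_add_trdeg k' (MvPolynomial (Fin n) k') n
    (by rw [MvPolynomial.ringKrullDim_of_isNoetherianRing, ringKrullDim_eq_zero_of_field, zero_add, Nat.card_fin]) P₁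
  have hbt : b ≤ t := by
    let q : MvPolynomial (Fin n) k' ⧸ P₁ →ₐ[k'] E := Ideal.Quotient.liftₐ P₁ ev fun a ha => RingHom.mem_ker.1 ha
    have hq : Function.Injective q := (injective_iff_map_eq_zero q).2 fun z hz => by
      obtain ⟨z, rfl⟩ := Ideal.Quotient.mk_surjective z
      exact Ideal.Quotient.eq_zero_iff_mem.2 hz
    have hle : Algebra.trdeg k' P₁.ResidueField ≤ Algebra.trdeg k' E :=
      trdeg_le_of_injective (IsFractionRing.liftAlgHom (K := P₁.ResidueField) hq) (RingHom.injective _)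
    rw [hb] at hle
    exact_mod_cast hle.trans ht
  calc (s'.map (Ideal.Quotient.mk m)).height + n ≤ s₀.height + (P₁.height + t) :=
        add_le_add hs₀ (by rw [ha, ← hab, Nat.cast_add]; exact add_le_add le_rfl (by exact_mod_cast hbt))
    _ ≤ P₀.height + t := by
        rw [← add_assoc]
        refine add_le_add ?_ le_rfl
        rw [hP₀]
        exact add_le_add le_rfl hP₁
    _ ≤ (RingHom.ker Θ).height + t := add_le_add (hP₀B.trans hB) le_rfl

end Groth.Agent.DeltaFF
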