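import Groth.Agent.DeltaFF.CM
import Mathlib.AlgebraicGeometry.Fiber

/-!
# The fibre of a base change over a point
-/

set_option autoImplicit false
set_option backward.isDefEq.respectTransparency.types false
set_option linter.style.haveILetI false

universe u

open CategoryTheory CategoryTheory.Limits AlgebraicGeometry
open scoped TensorProduct

namespace Groth.Agent.DeltaFF

/-- A transcendence degree over an isomorphic field. -/
theorem trdeg_le_of_iso {k k' E : Type u} [Field k] [Field k'] [Field E] (i : k →+* k') (ψ : k' →+* E) :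
    @Algebra.trdeg k' E _ _ ψ.toAlgebra ≤ @Algebra.trdeg k E _ _ (ψ.comp i).toAlgebra :=
  trdeg_le_of_generated (ψ.comp i) i (RingHom.id E) ψ (RingHom.id_comp _)
    (top_le_iff.1 fun z _ => Subfield.subset_closure (Or.inl ⟨z, rfl⟩))

variable {A A' : Type u} [CommRing A] [CommRing A'] [Algebra A A'] {X : Scheme.{u}}
  (f : X ⟶ Spec (CommRingCat.of A)) (x : X)

/-- The structure map of a residue field. -/
noncomputable def baseMap : CommRingCat.of A ⟶ X.residueField x :=
  CommRingCat.ofHom (algebraMap A (f x).asIdeal.ResidueField) ≫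
    (Scheme.Spec.residueFieldIso (CommRingCat.of A) (f x)).inv ≫ f.residueFieldMap x

theorem SpecMap_baseMap : Spec.map (baseMap f x) = X.fromSpecResidueField x ≫ f := by
  rw [baseMap, Spec.map_comp, Spec.map_comp, Category.assoc, Scheme.Spec.map_residueFieldIso_inv_eq_fromSpecResidueField,
    Scheme.Hom.SpecMap_residueFieldMap_fromSpecResidueField]

theorem ker_baseMap : RingHom.ker (baseMap f x).hom = (f x).asIdeal := by
  ext a
  simp only [baseMap, RingHom.mem_ker, CommRingCat.hom_comp, CommRingCat.hom_ofHom, RingHom.comp_apply,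
    map_eq_zero, Ideal.algebraMap_residueField_eq_zero]

variable {X' : Scheme.{u}} (h : X' ⟶ X) (q : X' ⟶ Spec (CommRingCat.of A'))
  (sq : IsPullback h q f (Spec.map (CommRingCat.ofHom (algebraMap A A')))) (t : X')

include sq in
theorem baseMap_compat :
    CommRingCat.ofHom (algebraMap A A') ≫ baseMap q t = baseMap f (h t) ≫ h.residueFieldMap t := by
  refine Spec.map_injective ?_
  rw [Spec.map_comp, Spec.map_comp, SpecMap_baseMap, SpecMap_baseMap,
    Scheme.Hom.SpecMap_residueFieldMap_fromSpecResidueField_assoc, Category.assoc, sq.w]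

/-- The residue field as an algebra over the base. -/
@[reducible] noncomputable def resAlg : Algebra A (X.residueField x) := (baseMap f x).hom.toAlgebra

include sq in
/-- The map of the fibre ring to the residue field of the point. -/
theorem exists_theta :
    letI := resAlg f (h t)
    ∃ Θ : A' ⊗[A] (X.residueField (h t) : Type u) →+* X'.residueField t,
      (∀ a, Θ (a ⊗ₜ 1) = (baseMap q t).hom a) ∧ (∀ y, Θ (1 ⊗ₜ y) = (h.residueFieldMap t).hom y) := by
  letI := resAlg f (h t)
  letI : Algebra A (X'.residueField t) := ((h.residueFieldMap t).hom.comp (baseMap f (h t)).hom).toAlgebra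
  let a₁ : A' →ₐ[A] X'.residueField t :=
    { (baseMap q t).hom with commutes' := fun r => congr($(baseMap_compat f h q sq t).hom r) }
  let a₂ : (X.residueField (h t) : Type u) →ₐ[A] X'.residueField t :=
    { (h.residueFieldMap t).hom with commutes' := fun r => rfl }
  refine ⟨(Algebra.TensorProduct.productMap a₁ a₂).toRingHom, fun a => ?_, fun y => ?_⟩
  · show (Algebra.TensorProduct.productMap a₁ a₂) (a ⊗ₜ 1) = _
    rw [Algebra.TensorProduct.productMap_apply_tmul, map_one, mul_one]
    rfl
  · show (Algebra.TensorProduct.productMap a₁ a₂) (1 ⊗ₜ y) = _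
    rw [Algebra.TensorProduct.productMap_apply_tmul, map_one, one_mul]
    rfl

include sq in
/-- The dimension of the fibre at a point, as a height in the tensor product. -/
theorem fiber_height :
    letI := resAlg f (h t)
    ∀ (Θ : A' ⊗[A] (X.residueField (h t) : Type u) →+* X'.residueField t),
      (∀ a, Θ (a ⊗ₜ 1) = (baseMap q t).hom a) → (∀ y, Θ (1 ⊗ₜ y) = (h.residueFieldMap t).hom y) →
      ringKrullDim ((h.fiber (h t)).presheaf.stalk (h.asFiber t)) = ((RingHom.ker Θ).height : WithBot ℕ∞) := by
  letI := resAlg f (h t)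
  intro Θ hΘ₁ hΘ₂
  have hb : Spec.map (CommRingCat.ofHom (algebraMap A (X.residueField (h t)))) = X.fromSpecResidueField (h t) ≫ f :=
    SpecMap_baseMap f (h t)
  have sq' : IsPullback (pullback.fst h (X.fromSpecResidueField (h t)) ≫ q) (pullback.snd h (X.fromSpecResidueField (h t)))
      (Spec.map (CommRingCat.ofHom (algebraMap A A')))
      (Spec.map (CommRingCat.ofHom (algebraMap A (X.residueField (h t))))) :=
    hb.symm ▸ (IsPullback.of_hasPullback h (X.fromSpecResidueField (h t))).paste_horiz sq.flip
  let e : pullback h (X.fromSpecResidueField (h t)) ≅ Spec (CommRingCat.of (A' ⊗[A] (X.residueField (h t) : Type u))) :=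
    sq'.isoPullback ≪≫ pullbackSpecIso A A' (X.residueField (h t))
  let γ : Spec (X'.residueField t) ⟶ pullback h (X.fromSpecResidueField (h t)) :=
    pullback.lift (X'.fromSpecResidueField t) (Spec.map (h.residueFieldMap t))
      (Scheme.Hom.SpecMap_residueFieldMap_fromSpecResidueField _ t).symm
  have hγ₁ : γ ≫ pullback.fst h (X.fromSpecResidueField (h t)) = X'.fromSpecResidueField t := pullback.lift_fst _ _ _
  have hγ₂ : γ ≫ pullback.snd h (X.fromSpecResidueField (h t)) = Spec.map (h.residueFieldMap t) := pullback.lift_snd _ _ _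
  have hγ : γ ≫ e.hom = Spec.map (CommRingCat.ofHom Θ) := by
    rw [← cancel_mono (pullbackSpecIso A A' (X.residueField (h t))).inv]
    have hce : e.hom ≫ (pullbackSpecIso A A' (X.residueField (h t))).inv = sq'.isoPullback.hom :=
      (congrArg (· ≫ _) (Iso.trans_hom _ _)).trans ((Category.assoc _ _ _).trans
        ((congrArg (sq'.isoPullback.hom ≫ ·) (Iso.hom_inv_id _)).trans (Category.comp_id _)))
    rw [Category.assoc, hce]
    apply pullback.hom_ext
    · refine ((Category.assoc _ _ _).trans (congrArg (γ ≫ ·) sq'.isoPullback_hom_fst)).trans ?_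
      rw [Category.assoc, pullbackSpecIso_inv_fst, ← Spec.map_comp, reassoc_of% hγ₁, ← SpecMap_baseMap]
      congr 1
      exact CommRingCat.hom_ext (RingHom.ext fun a => (hΘ₁ a).symm)
    · refine ((Category.assoc _ _ _).trans (congrArg (γ ≫ ·) sq'.isoPullback_hom_snd)).trans ?_
      rw [Category.assoc, pullbackSpecIso_inv_snd, ← Spec.map_comp]
      refine hγ₂.trans ?_
      congr 1
      exact CommRingCat.hom_ext (RingHom.ext fun a => (hΘ₂ a).symm)
  have hpt : γ default = h.asFiber t := by
    refine (h.fiberι (h t)).isEmbedding.injective ?_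
    rw [Scheme.Hom.fiberι_asFiber]
    exact ((Scheme.Hom.comp_apply γ (pullback.fst h _) default).symm.trans (congr($hγ₁ default))).trans
      (X'.fromSpecResidueField_apply t _)
  have hP : (e.hom (h.asFiber t)).asIdeal = RingHom.ker Θ := by
    rw [← hpt, ← Scheme.Hom.comp_apply, hγ]
    refine (congrArg (Ideal.comap Θ) ((Ideal.eq_bot_or_top _).resolve_right ?_)).trans rfl
    exact (PrimeSpectrum.isPrime _).ne_top
  show ringKrullDim ((pullback h (X.fromSpecResidueField (h t))).presheaf.stalk (h.asFiber t)) = _
  rw [← ringKrullDim_eq_of_ringEquiv (asIso (e.hom.stalkMap (h.asFiber t))).commRingCatIsoToRingEquiv,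
    ringKrullDim_eq_of_ringEquiv (AlgebraicGeometry.Spec.stalkIso (CommRingCat.of (A' ⊗[A] (X.residueField (h t) : Type u))) (e.hom (h.asFiber t))).commRingCatIsoToRingEquiv,
    IsLocalization.AtPrime.ringKrullDim_eq_height (e.hom (h.asFiber t)).asIdeal]
  simp only [hP]

end Groth.Agent.DeltaFF
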