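import Groth.Agent.DeltaFF.Glue
import Groth.Prelude.Def_CInt
import Groth.Prelude.Def_SGA2
import Mathlib.SetTheory.Cardinal.Finite

/-!
# The codimension function along faithfully flat base change
-/

set_option autoImplicit false
set_option linter.style.haveILetI false
set_option backward.isDefEq.respectTransparency.types false

universe u

open CategoryTheory CategoryTheory.Limits AlgebraicGeometry
open scoped TensorProduct

namespace Groth.Agent.DeltaFF

theorem deltaT_le {A A' : Type u} [CommRing A] [CommRing A'] [IsNoetherianRing A'] [Algebra A A'] [Module.Flat A A']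
    (hcm : LocCoh.IsCohenMacaulayRing A) (hcat' : CAlg.IsCatenary A') (I : Ideal A) (I' : Ideal A')
    (hTT : ∀ q : PrimeSpectrum A', I' ≤ q.asIdeal → I ≤ q.asIdeal.comap (algebraMap A A'))
    {X X' : Scheme.{u}} (f : X ⟶ Spec (CommRingCat.of A)) (h : X' ⟶ X) (q : X' ⟶ Spec (CommRingCat.of A'))
    (sq : IsPullback h q f (Spec.map (CommRingCat.ofHom (algebraMap A A')))) (t : X') (r r' a b e : ℕ)
    (hr : @Algebra.trdeg ((Spec (CommRingCat.of A)).residueField (f (h t))) (X.residueField (h t)) _ _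
      (f.residueFieldMap (h t)).hom.toAlgebra = r)
    (hr' : @Algebra.trdeg ((Spec (CommRingCat.of A')).residueField (q t)) (X'.residueField t) _ _
      (q.residueFieldMap t).hom.toAlgebra = r')
    (ha : SGA2.relCodim I (f (h t)) = a) (hb : SGA2.relCodim I' (q t) = b)
    (he : ringKrullDim ((h.fiber (h t)).presheaf.stalk (h.asFiber t)) = (e : WithBot ℕ∞)) :
    r + a ≤ r' + b + e := by
  letI := resAlg f (h t)
  -- primes
  set S : PrimeSpectrum A := f (h t) with hS
  set S' : PrimeSpectrum A' := q t with hS'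
  have hSS : S'.asIdeal.comap (algebraMap A A') = S.asIdeal := by
    rw [hS, hS', ← Scheme.Hom.comp_apply, sq.w]
    rfl
  obtain ⟨m, hm, hmS⟩ := Ideal.exists_minimalPrimes_le (I := S.asIdeal.map (algebraMap A A')) (J := S'.asIdeal)
    (Ideal.map_le_iff_le_comap.2 hSS.ge)
  haveI := hm.1.1
  have hmc : m.comap (algebraMap A A') = S.asIdeal :=
    le_antisymm ((Ideal.comap_mono hmS).trans hSS.le) (Ideal.map_le_iff_le_comap.1 hm.1.2)
  -- the fibre
  obtain ⟨Θ, hΘ₁, hΘ₂⟩ := exists_theta f h q sq t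
  have hP : (RingHom.ker Θ).height = e := by
    have := (fiber_height f h q sq t Θ hΘ₁ hΘ₂).symm.trans he
    exact_mod_cast this
  let a₀ : CommRingCat.of A ⟶ (Spec (CommRingCat.of A)).residueField (f (h t)) :=
    CommRingCat.ofHom (algebraMap A S.asIdeal.ResidueField) ≫
      (Scheme.Spec.residueFieldIso (CommRingCat.of A) (f (h t))).inv
  letI := (f.residueFieldMap (h t)).hom.toAlgebra
  obtain ⟨ι, x, hx⟩ := exists_isTranscendenceBasis' ((Spec (CommRingCat.of A)).residueField (f (h t))) (X.residueField (h t))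
  have hι : Cardinal.mk ι = (r : Cardinal.{u}) := hx.cardinalMk_eq_trdeg.trans hr
  haveI : Finite ι := Cardinal.lt_aleph0_iff_finite.1 (hι ▸ Cardinal.natCast_lt_aleph0)
  let eι : ι ≃ Fin r := Finite.equivFinOfCardEq (by simp [Nat.card, hι])
  have hinj : Function.Injective
      (MvPolynomial.eval₂Hom (RingHom.kerLift (algebraMap A (X.residueField (h t)))) (x ∘ eι.symm)) := by
    let j : A ⧸ RingHom.ker (algebraMap A (X.residueField (h t))) →+* (Spec (CommRingCat.of A)).residueField (f (h t)) :=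
      Ideal.Quotient.lift _ a₀.hom fun z hz => (f.residueFieldMap (h t)).hom.injective
        ((RingHom.mem_ker.1 hz).trans (map_zero _).symm)
    have hj : Function.Injective j := (injective_iff_map_eq_zero j).2 fun z hz => by
      obtain ⟨z, rfl⟩ := Ideal.Quotient.mk_surjective z
      refine Ideal.Quotient.eq_zero_iff_mem.2 (RingHom.mem_ker.2 ?_)
      exact (congrArg (f.residueFieldMap (h t)).hom hz).trans (map_zero _)
    have heq : MvPolynomial.eval₂Hom (RingHom.kerLift (algebraMap A (X.residueField (h t)))) (x ∘ eι.symm) =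
        (MvPolynomial.aeval (R := (Spec (CommRingCat.of A)).residueField (f (h t))) (x ∘ eι.symm)).toRingHom.comp
          (MvPolynomial.map j) := by
      refine MvPolynomial.ringHom_ext (fun z => ?_) fun i => ?_
      · obtain ⟨z, rfl⟩ := Ideal.Quotient.mk_surjective z
        simp only [MvPolynomial.eval₂Hom_C, RingHom.comp_apply, MvPolynomial.map_C, AlgHom.toRingHom_eq_coe,
          RingHom.coe_coe, MvPolynomial.aeval_C]
        rfl
      · simp
    rw [heq]
    exact Function.Injective.comp (g := MvPolynomial.aeval (x ∘ eι.symm)) (hx.1.comp _ eι.symm.injective) (MvPolynomial.map_injective j hj)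
  have hker : (RingHom.ker (algebraMap A (X.residueField (h t)))).map (algebraMap A A') ≤ m := by
    rw [show RingHom.ker (algebraMap A (X.residueField (h t))) = S.asIdeal from ker_baseMap f (h t)]
    exact hm.1.2
  let ψ : S'.asIdeal.ResidueField →+* X'.residueField t :=
    ((Scheme.Spec.residueFieldIso (CommRingCat.of A') (q t)).inv ≫ q.residueFieldMap t).hom
  have htr : @Algebra.trdeg S'.asIdeal.ResidueField (X'.residueField t) _ _ ψ.toAlgebra ≤ (r' : ℕ) := by
    refine (trdeg_le_of_iso (Scheme.Spec.residueFieldIso (CommRingCat.of A') (q t)).hom.hom ψ).trans_eq ?_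
    rw [← hr']
    congr 2
    exact congrArg CommRingCat.Hom.hom (Iso.hom_inv_id_assoc _ (q.residueFieldMap t))
  have h3 := fibre_bound (A := A) (A' := A') S'.asIdeal (h.residueFieldMap t).hom ψ
    (congrArg CommRingCat.Hom.hom (baseMap_compat f h q sq t)) m hmS hker (x ∘ eι.symm) hinj r' htr Θ hΘ₁ hΘ₂
  rw [hP] at h3
  -- the codimensions
  haveI : Nonempty {Q : PrimeSpectrum A' // S' ≤ Q ∧ I' ≤ Q.asIdeal} := by
    by_contra hemp
    haveI := not_nonempty_iff.1 hemp
    rw [SGA2.relCodim, iInf_of_empty] at hb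
    exact ENat.top_ne_natCast b hb
  obtain ⟨⟨Q, hQS, hQI⟩, hQ⟩ := ciInf_mem fun Q : {Q : PrimeSpectrum A' // S' ≤ Q ∧ I' ≤ Q.asIdeal} =>
    Order.height (⟨Q.1, Q.2.1⟩ : Set.Ici S')
  have hQb : Order.height (⟨Q, hQS⟩ : Set.Ici S') = b := hQ.trans hb
  let q₀ : PrimeSpectrum A := PrimeSpectrum.comap (algebraMap A A') Q
  have hSq : S ≤ q₀ := hSS.ge.trans (Ideal.comap_mono hQS)
  let M : PrimeSpectrum A' := ⟨m, inferInstance⟩
  have hMS : M ≤ S' := hmS
  have h4 : (a : ℕ∞) ≤ Order.height (⟨Q, hMS.trans hQS⟩ : Set.Ici M) := by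
    rw [← ha, SGA2.relCodim]
    refine (iInf_le _ ⟨q₀, hSq, hTT Q hQI⟩).trans ?_
    rw [LC.height_Ici_eq S q₀ hSq, LC.height_Ici_eq M Q (hMS.trans hQS)]
    have := cm_bound hcm m Q.asIdeal ((hMS.trans hQS : M ≤ Q)) (by rw [hmc]; exact hm)
    rw [hmc] at this
    exact this
  have h5 := h4.trans (height_Ici_add_le hcat' hMS hQS)
  rw [hQb, LC.height_Ici_eq M S' hMS] at h5
  have h6 : ((r + a : ℕ) : ℕ∞) ≤ ((r' + b + e : ℕ) : ℕ∞) := by
    push_cast
    calc (r : ℕ∞) + a ≤ r + ((S'.asIdeal.map (Ideal.Quotient.mk m)).height + b) := add_le_add le_rfl h5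
      _ = ((S'.asIdeal.map (Ideal.Quotient.mk m)).height + r) + b := by abel
      _ ≤ ((e : ℕ∞) + r') + b := add_le_add h3 le_rfl
      _ = (r' : ℕ∞) + b + e := by abel
  exact_mod_cast h6

end Groth.Agent.DeltaFF
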